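import Groth.Agent.FlatMisc.QfSlice
import Mathlib.AlgebraicGeometry.Sites.SheafQuasiCompact
import Mathlib.AlgebraicGeometry.Sites.Fpqc

/-!
# The fppf topology is generated by Zariski covers and quasi-finite affine covers
-/

universe w u

open CategoryTheory AlgebraicGeometry

namespace Groth.Agent.GrpQSites

/-- Flat, locally of finite presentation and locally quasi-finite. -/
abbrev qfFppf : MorphismProperty Scheme.{u} := @Flat ⊓ @LocallyOfFinitePresentation ⊓ @LocallyQuasiFinite

instance : IsZariskiLocalAtSource qfFppf.{u} := inferInstanceAs (IsZariskiLocalAtSource (_ ⊓ _))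

instance : qfFppf.{u}.IsMultiplicative  where
  id_mem _ := ⟨⟨inferInstance, inferInstance⟩, inferInstance⟩
  comp_mem f g hf hg := by
    have := hf.1.1; have := hf.1.2; have := hf.2
    have := hg.1.1; have := hg.1.2; have := hg.2
    exact ⟨⟨inferInstance, inferInstance⟩, inferInstance⟩

theorem fppfTopology_eq : Scheme.fppfTopology.{u} = Scheme.propQCTopology qfFppf := by
  apply le_antisymm
  · rw [Scheme.fppfTopology, Precoverage.toGrothendieck_le_iff_le_toPrecoverage]
    intro X R hR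
    rw [GrothendieckTopology.mem_toPrecoverage_iff]
    obtain ⟨ι, Y, f, rfl⟩ := R.exists_eq_ofArrows
    rw [Scheme.fppfPrecoverage, Scheme.ofArrows_mem_precoverage_iff] at hR
    choose i y hy using hR.1
    have hs : ∀ x : X, ∃ (S' : Scheme.{u}) (h : S' ⟶ Y (i x)), qfFppf (h ≫ f (i x)) ∧ x ∈ Set.range (h ≫ f (i x)) := by
      intro x
      haveI : Flat (f (i x)) := (hR.2 (i x)).1
      haveI : LocallyOfFinitePresentation (f (i x)) := (hR.2 (i x)).2
      obtain ⟨S', h, -, h1, h2, h3, h4⟩ := FlatMisc.QfSlice.exists_slice (f (i x)) (y x)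
      rw [hy x] at h4
      exact ⟨S', h, ⟨⟨h1, h2⟩, h3⟩, h4⟩
    choose S' h hP hmem using hs
    have hcov : Presieve.ofArrows S' (fun x => h x ≫ f (i x)) ∈ Scheme.propQCPrecoverage qfFppf X := by
      have h1 : Presieve.ofArrows S' (fun x => h x ≫ f (i x)) ∈ Scheme.precoverage qfFppf X :=
        (Scheme.ofArrows_mem_precoverage_iff qfFppf).2 ⟨fun x => ⟨x, hmem x⟩, hP⟩
      refine ⟨Scheme.precoverage_le_qcPrecoverage_of_isOpenMap ?_ _ h1, h1⟩
      rintro A B g ⟨⟨hg1, hg2⟩, -⟩
      exact g.isOpenMap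
    refine GrothendieckTopology.superset_covering _ ?_ (Precoverage.generate_mem_toGrothendieck hcov)
    rw [Sieve.generate_le_iff]
    rintro Z g ⟨x⟩
    exact Sieve.downward_closed _ (Sieve.le_generate _ _ _ (Presieve.ofArrows.mk (i x))) (h x)
  · refine Precoverage.toGrothendieck_mono (le_trans inf_le_right (Scheme.precoverage_mono ?_))
    rintro A B g ⟨hg, -⟩
    exact hg

theorem isSheaf_fppf_iff (F : Scheme.{u}ᵒᵖ ⥤ Type w) :
    Presheaf.IsSheaf Scheme.fppfTopology F ↔
      Presheaf.IsSheaf Scheme.zariskiTopology F ∧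
        ∀ (T S : Scheme.{u}) [IsAffine T] [IsAffine S] (f : T ⟶ S)
          [Flat f] [Surjective f] [LocallyOfFinitePresentation f] [LocallyQuasiFinite f],
          Presieve.IsSheafFor F (Presieve.singleton f) := by
  rw [isSheaf_iff_isSheaf_of_type, isSheaf_iff_isSheaf_of_type, fppfTopology_eq, isSheaf_type_propQCTopology_iff]
  refine and_congr_right fun _ => ⟨fun H T S _ _ f _ _ _ _ => ?_, fun H {R S} f hf hs => ?_⟩
  · obtain ⟨φ, hφ⟩ := Spec.map_surjective (T.isoSpec.inv ≫ f ≫ S.isoSpec.hom)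
    have h1 := H φ (hφ ▸ ⟨⟨inferInstance, inferInstance⟩, inferInstance⟩) (hφ ▸ inferInstance)
    rw [← Presieve.isSheafFor_singleton_iff_of_iso (f ≫ S.isoSpec.hom) (Spec.map φ) T.isoSpec (by simp [hφ]),
      Presieve.isSheafFor_iff_generate] at h1
    rw [Presieve.isSheafFor_iff_generate, ← Presieve.isSheafFor_pullback_iff F _ S.isoSpec.inv]
    convert h1 using 3
    ext Z k
    constructor
    · rintro ⟨_, m, _, ⟨⟩, hm⟩
      exact ⟨_, m, _, ⟨⟩, by rw [← Category.assoc, hm, Category.assoc, Iso.inv_hom_id, Category.comp_id]⟩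
    · rintro ⟨_, m, _, ⟨⟩, hm⟩
      exact ⟨_, m, _, ⟨⟩, by rw [← hm]; simp⟩
  · haveI := hf.1.1; haveI := hf.1.2; haveI := hf.2; haveI := hs
    exact H _ _ (Spec.map f)

end Groth.Agent.GrpQSites
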